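import Groth.Agent.KExact.SerreTop
import Groth.Agent.KExact.DualCM
import Groth.Agent.QCoh.Qcqs
import Groth.Agent.SchTop.Closed
import Groth.Prelude.Def_Canon

/-!
# Duality in one degree out of the twisted inverse image
-/

set_option autoImplicit false
set_option linter.style.haveILetI false
set_option linter.unusedSectionVars false
set_option linter.unusedVariables false
set_option backward.isDefEq.respectTransparency false
set_option backward.isDefEq.respectTransparency.types false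
set_option maxHeartbeats 1000000

universe u

open CategoryTheory CategoryTheory.Limits AlgebraicGeometry TopologicalSpace Opposite

attribute [local instance] HasDerivedCategory.standard
attribute [local instance] Groth.Agent.KExact.SerreTop.selfOver

noncomputable section

namespace Groth.Agent.DualDiv

open KExact KFlatLib DualShriek

/-- Objects with the same natural representation are isomorphic. -/
theorem iso_of_reps {C : Type*} [Category C] {P : C → Prop} {A B : C} (hA : P A) (hB : P B)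
    (e : ∀ G, P G → ((G ⟶ A) ≃ (G ⟶ B)))
    (hnat : ∀ G G' (hG : P G) (hG' : P G') (φ : G ⟶ G') (ψ : G' ⟶ A), e G hG (φ ≫ ψ) = φ ≫ e G' hG' ψ) :
    Nonempty (A ≅ B) := by
  refine ⟨⟨e A hA (𝟙 A), (e B hB).symm (𝟙 B), ?_, ?_⟩⟩
  · apply (e A hA).injective
    rw [hnat A B hA hB, Equiv.apply_symm_apply, Category.comp_id]
  · have := hnat B A hB hA ((e B hB).symm (𝟙 B)) (𝟙 A)
    rw [Category.comp_id, Equiv.apply_symm_apply] at this
    exact this.symm

variable [∀ (U V : Scheme.{u}) (j : U ⟶ V) [IsOpenImmersion j], PreservesFiniteLimits (Scheme.Modules.restrictFunctor j)]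
  [∀ (R : CommRingCat.{u}), PreservesFiniteLimits (tilde.functor R)]

variable {k : Type u} [Field k] {X : Scheme.{u}} [X.Over (Spec (CommRingCat.of k))]
  [DCoh.HasRpush (X ↘ Spec (CommRingCat.of k))]
  {hf : DCoh.RpushPreservesQCoh (X ↘ Spec (CommRingCat.of k))}

/-- Maps into the twisted inverse image shifted by `m` are forms on `H^m`. -/
theorem exists_dual {a : DCoh.DQCoh (Spec (CommRingCat.of k)) ⥤ DCoh.DQCoh X}
    (adj : DCoh.RpushQ (X ↘ Spec (CommRingCat.of k)) hf ⊣ a) (W : DCoh.DQCoh (Spec (CommRingCat.of k)))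
    (eW : W.obj ≅ (DCoh.tildeD (CommRingCat.of k)).obj (Dual.inD k k)) (m : ℕ) :
    ∃ Φ : ∀ G : (SerreTop.Good X m).FullSubcategory,
        (DCoh.inD X G.obj ⟶ (a.obj W).obj⟦(-(m : ℤ))⟧) ≃ (Coh.HH X G.obj m →ₗ[k] k),
      ∀ (F G : (SerreTop.Good X m).FullSubcategory) (φ : F ⟶ G) (g : DCoh.inD X G.obj ⟶ (a.obj W).obj⟦(-(m : ℤ))⟧),
        Φ F ((DerivedCategory.singleFunctor X.Modules 0).map φ.hom ≫ g) = (Φ G g).comp (Canon.HHlin k φ.hom m) := by
  let ω := Dual.inD k k
  haveI : ω.IsGE (-((0 : ℕ) : ℤ)) := by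
    show DerivedCategory.IsGE ((DerivedCategory.singleFunctor (ModuleCat.{u} k) 0).obj (ModuleCat.of k k)) _
    rw [Nat.cast_zero, neg_zero]
    infer_instance
  haveI : ∀ F : (SerreTop.Good X m).FullSubcategory, ((SerreTop.mf X hf m).obj F).IsLE m := fun F =>
    (DerivedCategory.isLE_iff _ _).2 fun i hi => by
      obtain ⟨j, rfl⟩ := Int.eq_ofNat_of_zero_le (show 0 ≤ i by omega)
      obtain ⟨θ, -⟩ := SerreTop.exists_theta (X := X) (hf := hf) m j
      haveI := F.property.2 j (by omega)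
      exact @ModuleCat.isZero_of_subsingleton _ _ _ (θ F).symm.toEquiv.subsingleton
  obtain ⟨θ, hθ⟩ := SerreTop.exists_theta (X := X) (hf := hf) m m
  obtain ⟨ε⟩ := SerreTop.nonempty_eps X hf m (m : ℤ)
  let K := (a.obj W).obj
  let HA := DerivedCategory.homologyFunctor (ModuleCat.{u} k) (-((0 : ℕ) : ℤ))
  let cA := (DerivedCategory.homologyFunctor (ModuleCat.{u} k) 0).shiftIso (m : ℤ) (-((0 : ℕ) : ℤ)) (m : ℤ)
    (by omega)
  haveI : ∀ F : (SerreTop.Good X m).FullSubcategory,
      (((SerreTop.mf X hf m).obj F)⟦(m : ℤ)⟧).IsLE (-((0 : ℕ) : ℤ)) := fun F =>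
    DerivedCategory.TStructure.t.isLE_shift _ (m : ℤ) (m : ℤ) (-((0 : ℕ) : ℤ)) (by omega)
  let sh := (shiftEquiv' (DCoh.D X) (m : ℤ) (-(m : ℤ)) (add_neg_cancel _)).toAdjunction
  let EQ : (SerreTop.Good X m).FullSubcategory → DCoh.DQCoh X := fun F =>
    ⟨(DCoh.inD X F.obj)⟦(m : ℤ)⟧, isQCohD_shift (isQCohD_inD_of_isQCoh F.property.1) _⟩
  let e2 : ∀ F, (DCoh.inD X F.obj ⟶ K⟦(-(m : ℤ))⟧) ≃ ((DCoh.RpushQ _ hf).obj (EQ F) ⟶ W) := fun F =>
    ((sh.homEquiv _ _).symm.trans
      { toFun := fun g => (ObjectProperty.homMk g : EQ F ⟶ a.obj W)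
        invFun := fun g => g.hom
        left_inv := fun _ => rfl
        right_inv := fun _ => rfl }).trans (adj.homEquiv _ _).symm
  let e3 : ∀ F, ((DCoh.RpushQ (X ↘ Spec (CommRingCat.of k)) hf).obj (EQ F) ⟶ W) ≃
      (((SerreTop.mf X hf m).obj F)⟦(m : ℤ)⟧ ⟶ ω) := fun F =>
    ({ toFun := fun g => g.hom
       invFun := fun g => ObjectProperty.homMk g
       left_inv := fun _ => rfl
       right_inv := fun _ => rfl } : _ ≃ ((DCoh.Rpush (X ↘ Spec (CommRingCat.of k))).obj
          ((DCoh.inD X F.obj)⟦(m : ℤ)⟧) ⟶ W.obj)).trans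
      (((ε.app F).homFromEquiv.trans eW.homToEquiv).trans (Equiv.ofBijective _ (tildeD_map_bijective _ _)).symm)
  let e4 : ∀ F, (((SerreTop.mf X hf m).obj F)⟦(m : ℤ)⟧ ⟶ ω) ≃
      ((SerreTop.gf (hf := hf) m m).obj F ⟶ ModuleCat.of k (Dual.HD k ω (-((0 : ℕ) : ℤ)))) := fun F =>
    (Equiv.ofBijective _ (bijective_homologyMap (-((0 : ℕ) : ℤ)))).trans (cA.app _).homFromEquiv
  let e : Dual.HD k ω (-((0 : ℕ) : ℤ)) ≃ₗ[k] k := H9Misc.DRingTel.homologyInD k
  let e5 : ∀ F : (SerreTop.Good X m).FullSubcategory,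
      ((SerreTop.gf (hf := hf) m m).obj F ⟶ ModuleCat.of k (Dual.HD k ω (-((0 : ℕ) : ℤ)))) ≃
        (Coh.HH X F.obj m →ₗ[k] k) := fun F =>
    (ModuleCat.homEquiv (M := (SerreTop.gf (hf := hf) m m).obj F)).trans ((θ F).symm.arrowCongr e).toEquiv
  refine ⟨fun F => ((e2 F).trans (e3 F)).trans ((e4 F).trans (e5 F)), fun F G φ g => ?_⟩
  let gD := (DerivedCategory.singleFunctor X.Modules 0).map φ.hom
  let gE : EQ F ⟶ EQ G := ObjectProperty.homMk (gD⟦(m : ℤ)⟧')
  let q := ((SerreTop.mf X hf m).map φ)⟦(m : ℤ)⟧'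
  have h2 : e2 F (gD ≫ g) = (DCoh.RpushQ _ hf).map gE ≫ e2 G g := by
    show (adj.homEquiv _ _).symm (ObjectProperty.homMk _) = _
    rw [show (ObjectProperty.homMk ((sh.homEquiv (DCoh.inD X F.obj) K).symm (gD ≫ g)) : EQ F ⟶ a.obj W) =
        gE ≫ ObjectProperty.homMk ((sh.homEquiv (DCoh.inD X G.obj) K).symm g) from
      ObjectProperty.hom_ext _ (sh.homEquiv_naturality_left_symm gD g),
      Adjunction.homEquiv_naturality_left_symm]
    rfl
  have he3 : ∀ (H : (SerreTop.Good X m).FullSubcategory)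
      (g : (DCoh.RpushQ (X ↘ Spec (CommRingCat.of k)) hf).obj (EQ H) ⟶ W),
      (DCoh.tildeD (CommRingCat.of k)).map (e3 H g) = ε.inv.app H ≫ g.hom ≫ eW.hom := fun H g => by
    refine ((Equiv.ofBijective _ (tildeD_map_bijective (R := CommRingCat.of k)
      (((SerreTop.mf X hf m).obj H)⟦(m : ℤ)⟧) ω)).apply_symm_apply _).trans ?_
    show (ε.inv.app H ≫ g.hom) ≫ eW.hom = _
    exact Category.assoc _ _ _
  have h3 : ∀ g, e3 F ((DCoh.RpushQ (X ↘ Spec (CommRingCat.of k)) hf).map gE ≫ g) = q ≫ e3 G g := fun g => by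
    refine (tildeD_map_bijective _ _).1 ?_
    refine (he3 F _).trans (Eq.trans ?_ ((DCoh.tildeD (CommRingCat.of k)).map_comp q (e3 G g)).symm)
    refine Eq.trans ?_ (congrArg ((DCoh.tildeD (CommRingCat.of k)).map q ≫ ·) (he3 G g)).symm
    exact (congrArg (ε.inv.app F ≫ ·) (Category.assoc _ _ _)).trans
      (ε.inv.naturality_assoc φ (g.hom ≫ eW.hom)).symm
  have h4 : ∀ g, e4 F (q ≫ g) = (SerreTop.gf (hf := hf) m m).map φ ≫ e4 G g := fun g => by
    show (cA.app _).inv ≫ HA.map (q ≫ g) = _ ≫ (cA.app _).inv ≫ HA.map g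
    rw [Functor.map_comp]
    exact (cA.inv.naturality_assoc ((SerreTop.mf X hf m).map φ) _).symm
  show e5 F (e4 F (e3 F (e2 F (gD ≫ g)))) = _
  rw [h2, h3, h4]
  refine LinearMap.ext fun x => ?_
  show e (((SerreTop.gf (hf := hf) m m).map φ ≫ e4 G (e3 G (e2 G g))).hom (θ F x)) =
    e ((e4 G (e3 G (e2 G g))).hom (θ G (Canon.HHlin k φ.hom m x)))
  rw [show θ G (Canon.HHlin k φ.hom m x) = (SerreTop.gf (hf := hf) m m).map φ (θ F x) from hθ F G φ x]
  rfl

omit [DCoh.HasRpush (X ↘ Spec (CommRingCat.of k))] in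
/-- The dimension of an irreducible component through closed points. -/
theorem dim_component [LocallyOfFiniteType (X ↘ Spec (CommRingCat.of k))] [NoetherianSpace X] (n : ℕ)
    (hn : topologicalKrullDim X = n)
    (heq : ∀ x : X, IsClosed ({x} : Set X) → ringKrullDim (X.presheaf.stalk x) = n)
    (Z : Set X) (hZ : Z ∈ irreducibleComponents X) : topologicalKrullDim Z = (n : WithBot ℕ∞) := by
  refine le_antisymm ((topologicalKrullDim_subspace_le X Z).trans hn.le) ?_
  haveI : JacobsonSpace X := LocallyOfFiniteType.jacobsonSpace (X ↘ Spec (CommRingCat.of k))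
  let S : Set (Set X) := irreducibleComponents X \ {Z}
  have hSc : IsClosed (⋃₀ S) := by
    rw [Set.sUnion_eq_biUnion]
    exact (NoetherianSpace.finite_irreducibleComponents.subset Set.sdiff_subset).isClosed_biUnion
      fun C hC => isClosed_of_mem_irreducibleComponents C hC.1
  have hne : (Z ∩ (⋃₀ S)ᶜ).Nonempty := by
    by_contra h
    have hsub : Z ⊆ ⋃₀ S := fun z hz => by
      by_contra hz'
      exact h ⟨z, hz, hz'⟩
    rw [Set.sUnion_eq_biUnion] at hsub
    obtain ⟨C, hC, hZC⟩ := (isIrreducible_iff_sUnion_isClosed.1 hZ.1)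
      ((NoetherianSpace.finite_irreducibleComponents (α := X)).subset Set.sdiff_subset).toFinset
      (fun C hC => isClosed_of_mem_irreducibleComponents C ((Set.Finite.mem_toFinset _).1 hC).1)
      (by rw [Set.Finite.coe_toFinset, Set.sUnion_eq_biUnion]; exact hsub)
    obtain ⟨hC1, hC2⟩ := (Set.Finite.mem_toFinset _).1 hC
    exact hC2 (subset_antisymm (hZ.le_of_ge hC1.1 hZC) hZC)
  obtain ⟨x, ⟨hxZ, hxS⟩, hxc⟩ := nonempty_inter_closedPoints hne
    ((isClosed_of_mem_irreducibleComponents Z hZ).isLocallyClosed.inter hSc.isOpen_compl.isLocallyClosed)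
  have hgen : ∀ y, y ⤳ x → y ∈ Z := fun y hy => by
    have hC := irreducibleComponent_mem_irreducibleComponents y
    have hx : x ∈ irreducibleComponent y := hy.mem_closed isClosed_irreducibleComponent mem_irreducibleComponent
    by_contra h
    exact hxS ⟨_, ⟨hC, fun e => h (e ▸ mem_irreducibleComponent)⟩, hx⟩
  rw [← heq x hxc, ← PrimeSpectrum.topologicalKrullDim_eq_ringKrullDim]
  refine Topology.IsInducing.topologicalKrullDim_le (f := Set.codRestrict (X.fromSpecStalk x) Z fun p => hgen _ ?_) ?_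
  · exact (Set.ext_iff.1 (Scheme.range_fromSpecStalk (X := X) (x := x)) _).1 ⟨p, rfl⟩
  · exact (X.fromSpecStalk x).isEmbedding.isInducing.codRestrict _

/-- The dimension through closed points. -/
theorem topologicalKrullDim_le_of_closed {D : Scheme.{u}} [CompactSpace D] (m : ℕ)
    (h : ∀ x : D, IsClosed ({x} : Set D) → ringKrullDim (D.presheaf.stalk x) ≤ m) : topologicalKrullDim D ≤ m := by
  rw [topologicalKrullDim, Order.krullDim_eq_of_orderIso irreducibleSetEquivPoints]
  rcases isEmpty_or_nonempty D with he | he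
  · rw [Order.krullDim_eq_bot]
    exact bot_le
  rw [Order.krullDim_eq_iSup_coheight_of_nonempty, show ((m : WithBot ℕ∞)) = ((m : ℕ∞) : WithBot ℕ∞) from rfl,
    WithBot.coe_le_coe]
  refine iSup_le fun y => ?_
  obtain ⟨x, hx, hxc⟩ := isClosed_closure.exists_closed_singleton
    (⟨y, subset_closure rfl⟩ : (closure ({y} : Set D)).Nonempty)
  have hyx : x ≤ y := specializes_iff_mem_closure.2 hx
  refine (Order.coheight_anti hyx).trans ?_
  have := h x hxc
  rw [ringKrullDim_stalk_eq_coheight] at this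
  exact WithBot.coe_le_coe.1 this

end Groth.Agent.DualDiv
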