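import Groth.Agent.Lib.DivisorExt
import Groth.Agent.Lib.ClosedShriek
import Groth.Agent.Lib.CurveOnSurf
import Groth.Agent.SheafHomX.Smul
import Groth.Agent.ZeroSchX.Basic
import Groth.Agent.QCoh.Qcqs
import Groth.Agent.QCoh.Pullback
import Groth.Agent.QCoh.Tilde
import Mathlib.Algebra.Homology.DerivedCategory.Ext.ExactSequences

/-!
# The first `Ext` out of an effective divisor into a module without sections supported on it
-/

set_option linter.style.haveILetI false
set_option linter.unusedSectionVars false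
set_option backward.isDefEq.respectTransparency false
set_option backward.isDefEq.respectTransparency.types false
set_option maxHeartbeats 1000000

universe u

open CategoryTheory CategoryTheory.Limits AlgebraicGeometry TopologicalSpace Opposite
open CategoryTheory.Abelian
open scoped Groth.Agent.H23.PicMul

noncomputable section

namespace Groth.Agent.DualDiv

open Groth.Agent.SheafHomX Groth.Agent.KFlatLib

variable {X D : Scheme.{u}} (i : D ⟶ X) [IsClosedImmersion i]

local notation "II" => ClSub.idealMod i.ker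

/-- Multiplication by sections of the ideal, naturally. -/
def mulNat : ten II ⟶ 𝟭 X.Modules :=
  (DCoh.tensorBi (X := X)).flip.map (ClSub.idealModι i.ker) ≫ (tensorStructureIso X).hom

theorem mulNat_app (A : X.Modules) : (mulNat i).app A = DivisorExt.mulIdeal i.ker A := rfl

theorem app_idealSect (U : X.Opens) (b : Γ(II, U)) :
    i.app U (OmegaSh.idealSect i.ker U b) = 0 := by
  rw [Scheme.Hom.congr_app i.toImage_imageι.symm U]
  simp only [Scheme.Hom.comp_app, CommRingCat.comp_apply]
  rw [show i.imageι.app U (OmegaSh.idealSect i.ker U b) = 0 from OmegaLib.subschemeι_app_idealSect i.ker U b,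
    map_zero, map_zero]

theorem mulIdeal_push (G : D.Modules) :
    DivisorExt.mulIdeal i.ker ((Scheme.Modules.pushforward i).obj G) = 0 := by
  refine SheafHomX.tensor_hom_ext fun U a b => ?_
  refine (DivisorExt.mulIdeal_tmS i.ker _ a b).trans ?_
  show (i.app U).hom (OmegaSh.idealSect i.ker U b) • (show Γ(G, i ⁻¹ᵁ U) from a) = _
  rw [show (i.app U).hom (OmegaSh.idealSect i.ker U b) = 0 from app_idealSect i U b]
  exact zero_smul _ _

/-- A module killed by the ideal is a direct image. -/
theorem iso_push_of_mulIdeal (W : X.Modules) (h : DivisorExt.mulIdeal i.ker W = 0) :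
    Nonempty (W ≅ (Scheme.Modules.pushforward i).obj ((Scheme.Modules.pullback i).obj W)) := by
  obtain ⟨c⟩ := DivisorExt.nonempty_cokernel_mulIdeal i.ker W
  obtain ⟨q⟩ := DivisorExt.nonempty_quotMod_iso i
  exact ⟨(cokernelZeroIsoTarget.symm ≪≫ cokernelIsoOfEq h.symm) ≪≫ c ≪≫
    (DCoh.tensorBi.obj W).mapIso q ≪≫ (ClosedShriek.tenPushIso i).app W⟩

/-- `Ext¹(i_*F, ω) = Hom(i_*F, i_*i^*(O(D) ⊗ ω))` when `ω` has no sections on the divisor. -/
theorem exists_class (hI : PicF.IsInvertible II) {OD : X.Modules} (hOD : ClSub.IsInverseOf OD II)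
    [HasExt.{u} X.Modules] {ω : X.Modules} (hω : Coh.IsQCoh ω)
    (hvan : ∀ F : D.Modules, Coh.IsQCoh F → ∀ g : (Scheme.Modules.pushforward i).obj F ⟶ ω, g = 0) :
    Coh.IsQCoh ((Scheme.Modules.pullback i).obj (CohB1.tensorMod OD ω)) ∧
    ∃ c : Ext ((Scheme.Modules.pushforward i).obj
        ((Scheme.Modules.pullback i).obj (CohB1.tensorMod OD ω))) ω 1,
      ∀ F : D.Modules, Coh.IsQCoh F →
        Function.Bijective fun g : (Scheme.Modules.pushforward i).obj F ⟶ (Scheme.Modules.pushforward i).obj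
          ((Scheme.Modules.pullback i).obj (CohB1.tensorMod OD ω)) => (Ext.mk₀ g).comp c (zero_add 1) := by
  obtain ⟨eO⟩ := hOD
  obtain ⟨c₁⟩ := H23.PicMul.comm II OD
  let e' : (DCoh.tensorBi.obj II).obj OD ≅ Coh.structureModule X := c₁ ≪≫ eO
  let T : X.Modules ⥤ X.Modules := DCoh.tensorBi.obj OD
  haveI : T.IsEquivalence :=
    (CategoryTheory.Equivalence.mk T (DCoh.tensorBi.obj II)
      (CurveRR.cancelIso (A := II) (B := OD) e').symm (CurveRR.cancelIso eO)).isEquivalence_functor
  haveI : T.Additive := inferInstanceAs (DCoh.tensorBi.obj OD).Additive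
  haveI : PreservesFiniteLimits T := inferInstance
  haveI : PreservesFiniteColimits T := inferInstance
  haveI := DivisorExt.isEquivalence_ten (L := OD) (I := II) ⟨eO⟩
  haveI : (ten II).Additive := (SheafHomX.adj II).left_adjoint_additive
  let η : T ⋙ ten II ≅ 𝟭 X.Modules :=
    Functor.isoWhiskerLeft T ((KFlatLib.tensorBiFlipIso X).app II) ≪≫ CurveRR.cancelIso (A := II) (B := OD) e'
  let β : 𝟭 X.Modules ⟶ T := η.inv ≫ Functor.whiskerLeft T (mulNat i) ≫ (Functor.rightUnitor T).hom
  have hβ : ∀ N, β.app N = η.inv.app N ≫ DivisorExt.mulIdeal i.ker (T.obj N) := fun N => by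
    show η.inv.app N ≫ _ ≫ 𝟙 _ = _
    rw [Category.comp_id]
    rfl
  have hq : ∀ {F : D.Modules}, Coh.IsQCoh F → Coh.IsQCoh ((Scheme.Modules.pushforward i).obj F) :=
    fun hF => QCoh.isQCoh_pushforward i hF
  have hqI : Coh.IsQCoh II := ZeroSchX.isQCoh_inv hI
  have hqOD : Coh.IsQCoh OD := ZeroSchX.isQCoh_inv (CurveOnSurf.isInvertible_of_inverse hI ⟨eO⟩).1
  let A := T.obj ω
  have hA : Coh.IsQCoh A := KFlatLib.isQCoh_tensor hqOD hω
  have hzero : ∀ N : X.Modules, DivisorExt.mulIdeal i.ker N = 0 → β.app N = 0 := fun N hN => by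
    rw [hβ]
    suffices h : DivisorExt.mulIdeal i.ker (T.obj N) = 0 by rw [h, comp_zero]
    apply (ten II).map_injective
    rw [DivisorExt.ten_map_mulIdeal, Functor.map_zero]
    have h1 : (ten II).map (η.hom.app N) ≫ DivisorExt.mulIdeal i.ker N =
        DivisorExt.mulIdeal i.ker ((ten II).obj (T.obj N)) ≫ η.hom.app N := (mulNat i).naturality (η.hom.app N)
    rw [hN, comp_zero] at h1
    exact (cancel_mono (η.hom.app N)).1 (h1.symm.trans zero_comp.symm)
  have hvanA : ∀ F : D.Modules, Coh.IsQCoh F → ∀ g : (Scheme.Modules.pushforward i).obj F ⟶ A, g = 0 := by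
    intro F hF g
    obtain ⟨w⟩ := iso_push_of_mulIdeal i ((ten II).obj ((Scheme.Modules.pushforward i).obj F))
      (by rw [← DivisorExt.ten_map_mulIdeal, mulIdeal_push, Functor.map_zero])
    have h1 := hvan _ (QCoh.isQCoh_pullback i (KFlatLib.isQCoh_tensor (hq hF) hqI))
      (w.inv ≫ (ten II).map g ≫ η.hom.app ω)
    rw [← comp_zero (f := w.inv), cancel_epi] at h1
    refine (ten II).map_injective ?_
    rw [Functor.map_zero]
    exact (cancel_mono (η.hom.app ω)).1 (h1.trans zero_comp.symm)
  let u := β.app ω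
  haveI : Mono u := by
    rw [show u = η.inv.app ω ≫ DivisorExt.mulIdeal i.ker A from hβ ω]
    haveI : Mono (DivisorExt.mulIdeal i.ker A) := by
      refine Preadditive.mono_of_kernel_zero ?_
      let w := kernel.ι (DivisorExt.mulIdeal i.ker A)
      have hW : DivisorExt.mulIdeal i.ker (kernel (DivisorExt.mulIdeal i.ker A)) = 0 := by
        have h1 : (ten II).map w ≫ DivisorExt.mulIdeal i.ker ((ten II).obj A) =
            DivisorExt.mulIdeal i.ker _ ≫ w := (mulNat i).naturality w
        rw [← DivisorExt.ten_map_mulIdeal, ← Functor.map_comp, kernel.condition, Functor.map_zero] at h1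
        exact (cancel_mono w).1 (h1.symm.trans zero_comp.symm)
      obtain ⟨e⟩ := iso_push_of_mulIdeal i _ hW
      have hWq := QCoh.isQCoh_kernel (KFlatLib.isQCoh_tensor hA hqI) hA (DivisorExt.mulIdeal i.ker A)
      have h2 := hvan _ (QCoh.isQCoh_pullback i hWq) (e.inv ≫ w ≫ η.hom.app ω)
      rw [← comp_zero (f := e.inv), cancel_epi] at h2
      exact (cancel_mono (η.hom.app ω)).1 (h2.trans zero_comp.symm)
    infer_instance
  obtain ⟨c₂⟩ := DivisorExt.nonempty_cokernel_mulIdeal i.ker A
  obtain ⟨q⟩ := DivisorExt.nonempty_quotMod_iso i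
  let eC : cokernel u ≅ (Scheme.Modules.pushforward i).obj ((Scheme.Modules.pullback i).obj A) :=
    cokernel.mapIso u (DivisorExt.mulIdeal i.ker A) (η.app ω).symm (Iso.refl _)
      (by rw [Iso.refl_hom, Category.comp_id]; exact hβ ω) ≪≫
    c₂ ≪≫ (DCoh.tensorBi.obj A).mapIso q ≪≫ (ClosedShriek.tenPushIso i).app A
  let S : ShortComplex X.Modules := ShortComplex.mk u (cokernel.π u) (cokernel.condition u)
  have hmu : Mono S.f := (inferInstance : Mono u)
  have hS : S.ShortExact := { exact := ShortComplex.exact_cokernel u, mono_f := hmu }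
  refine ⟨QCoh.isQCoh_pullback i hA, (Ext.mk₀ eC.inv).comp hS.extClass (zero_add 1), fun F hF => ?_⟩
  let iF := (Scheme.Modules.pushforward i).obj F
  have hβF : β.app iF = 0 := hzero _ (mulIdeal_push i F)
  have hδ : Function.Bijective fun z : iF ⟶ S.X₃ => (Ext.mk₀ z).comp hS.extClass (zero_add 1) := by
    refine ⟨fun z z' hz => ?_, fun e => ?_⟩
    · have h0 : (Ext.mk₀ (z - z')).comp hS.extClass (zero_add 1) = 0 := by
        have key : (Ext.mk₀ (z - z')).comp hS.extClass (zero_add 1) + (Ext.mk₀ z').comp hS.extClass (zero_add 1) =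
            (Ext.mk₀ z).comp hS.extClass (zero_add 1) := by
          rw [← Ext.add_comp, ← Ext.mk₀_add, sub_add_cancel]
        exact add_eq_right.1 (key.trans hz)
      obtain ⟨y, hy⟩ := Ext.covariant_sequence_exact₃ iF hS _ rfl h0
      obtain ⟨y', rfl⟩ := (Ext.mk₀_bijective iF S.X₂).2 y
      obtain rfl : y' = 0 := hvanA F hF y'
      rw [Ext.mk₀_zero, Ext.zero_comp] at hy
      exact sub_eq_zero.1 ((Ext.mk₀_bijective iF S.X₃).1 (by rw [Ext.mk₀_zero]; exact hy.symm))
    · let J : InjectivePresentation ω := Classical.arbitrary _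
      let S₀ : ShortComplex X.Modules := ShortComplex.mk J.f (cokernel.π J.f) (cokernel.condition J.f)
      have hm₀ : Mono S₀.f := J.mono
      have hS₀ : S₀.ShortExact := { exact := ShortComplex.exact_cokernel J.f, mono_f := hm₀ }
      haveI : Injective S₀.X₂ := J.injective
      obtain ⟨z₀, hz₀⟩ := Ext.covariant_sequence_exact₁ iF hS₀ e (Ext.eq_zero_of_injective _) (zero_add 1)
      obtain ⟨g, rfl⟩ := (Ext.mk₀_bijective iF S₀.X₃).2 z₀
      let φ : S₀ ⟶ S₀.map T := ShortComplex.homMk (β.app S₀.X₁) (β.app S₀.X₂) (β.app S₀.X₃)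
        (β.naturality S₀.f).symm (β.naturality S₀.g).symm
      have hnat : hS₀.extClass.comp (Ext.mk₀ φ.τ₁) (add_zero 1) =
          (Ext.mk₀ φ.τ₃).comp (hS₀.map_of_exact T).extClass (zero_add 1) :=
        ShortComplex.ShortExact.extClass_naturality hS₀ (hS₀.map_of_exact T) φ
      have hev : e.comp (Ext.mk₀ S.f) (add_zero 1) = 0 := by
        rw [← hz₀, Ext.comp_assoc_of_third_deg_zero]
        show (Ext.mk₀ g).comp (hS₀.extClass.comp (Ext.mk₀ φ.τ₁) (add_zero 1)) (zero_add 1) = 0
        rw [hnat, ← Ext.comp_assoc_of_second_deg_zero, Ext.mk₀_comp_mk₀]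
        have hg : g ≫ φ.τ₃ = 0 := by
          have := β.naturality g
          rw [hβF, zero_comp] at this
          exact this
        rw [hg, Ext.mk₀_zero, Ext.zero_comp]
      obtain ⟨z, hz⟩ := Ext.covariant_sequence_exact₁ iF hS e hev (zero_add 1)
      obtain ⟨z', rfl⟩ := (Ext.mk₀_bijective iF S.X₃).2 z
      exact ⟨z', hz⟩
  refine (congrArg Function.Bijective (funext fun g => ?_)).mp (hδ.comp eC.symm.homToEquiv.bijective)
  show (Ext.mk₀ (g ≫ eC.inv)).comp hS.extClass (zero_add 1) = _
  rw [← Ext.mk₀_comp_mk₀, Ext.comp_assoc_of_second_deg_zero]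

end Groth.Agent.DualDiv
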